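import Groth.Prelude.Def_DefoConn
import Groth.Prelude.Def_DefoSh2
import Groth.Prelude.Def_FlatMod2
import Groth.Prelude.Def_KoszTw
import Groth.Agent.KFlatLib.Scheme.TensorStalk
import Groth.Agent.KFlatLib.Scheme.Exact
import Groth.Agent.QCoh.LocFree
import Groth.Prelude.Def_KLin
import Mathlib.RingTheory.Flat.EquationalCriterion

/-! First-order deformations of connections: the basic exact sequences. -/

set_option linter.style.haveILetI false
set_option backward.isDefEq.respectTransparency false

universe u

open CategoryTheory CategoryTheory.Limits AlgebraicGeometry Opposite ArtFun ArtFun.Art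

namespace Groth.Agent.DefoConnLib

open MonoidalCategory in
/-- Morphisms out of a tensor product are determined on tensors of sections. -/
theorem tensor_hom_ext {X : Scheme.{u}} {M N P : X.Modules} {f g : CohB1.tensorMod M N ⟶ P}
    (h : ∀ (U : X.Opens) (s : M.val.obj (op U)) (t : N.val.obj (op U)),
      f.app U (SecTwist.tmul M N U s t) = g.app U (SecTwist.tmul M N U s t)) : f = g := by
  apply ((PresheafOfModules.sheafificationAdjunction (𝟙 X.ringCatSheaf.obj)).homEquiv
    (CohB1.tensorPre M N : X.PresheafOfModules) P).injective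
  rw [Adjunction.homEquiv_unit, Adjunction.homEquiv_unit]
  refine PresheafOfModules.Hom.ext (funext fun U => ModuleCat.hom_ext (LinearMap.ext fun z => ?_))
  refine KFlatLib.tm_induction (P := (CohB1.toPMod M : CohB1.PMod X)) (Q := (CohB1.toPMod N : CohB1.PMod X))
    (C := fun w => _ = _) z ?_ (fun s t => h U.unop s t) ?_
  · exact (map_zero _).trans (map_zero _).symm
  · intro a b ha hb
    exact (map_add _ a b).trans ((congrArg₂ (· + ·) ha hb).trans (map_add _ a b).symm)

/-- Tensoring commutes with global scalars. -/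
theorem tensorMap_smulModΓ {X : Scheme.{u}} (M N : X.Modules) (r : Coh.Γtop X) :
    KoszTw.tensorMap (Formal.smulModΓ M r) (𝟙 N) = Formal.smulModΓ (CohB1.tensorMod M N) r := by
  refine tensor_hom_ext fun U s t => ?_
  rw [KoszTw.tensorMap_tmul]
  erw [KLin.smulModΓ_app_apply, KLin.smulModΓ_app_apply]
  exact (congrArg ((SecTwist.toTensor M N).app (op U)).hom
    (KFlatLib.tm_smul_left (P := (CohB1.toPMod M : CohB1.PMod X)) (Q := (CohB1.toPMod N : CohB1.PMod X))
      (U := op U) (X.presheaf.map (homOfLE (le_top : U ≤ ⊤)).op r) s t)).trans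
    (LinearMap.map_smul _ _ _)

variable {k : Type u} [Field k] {X : Scheme.{u}} [X.Over (Spec (CommRingCat.of k))] {E : X.Modules}
  (D : DefoSh.Defo E (dual k k)) {ι : E ⟶ D.sheaf}

theorem epi_π : Epi D.π := by
  refine (ShortComplex.exact_iff_epi (ShortComplex.mk D.π (0 : E ⟶ E) comp_zero) rfl).1 ?_
  refine (KFlatLib.exact_iff_stalk _).2 fun x => ?_
  refine ((ShortComplex.mk D.π (0 : E ⟶ E) comp_zero).map
    (DerSch.stalkFunctor X x)).exact_iff_epi ((DerSch.stalkFunctor X x).map_zero _ _) |>.2 ?_
  exact (ModuleCat.epi_iff_surjective _).2 (D.surj x)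

variable (k) in
/-- `ε` as an element of the coefficient ring. -/
noncomputable abbrev eps : dual k k := (DualNumber.eps : DualNumber k)

theorem res_eps : (dual k k).res (eps k) = 0 := rfl

theorem eps_π : D.act (DualNumber.eps : DualNumber k) ≫ D.π = 0 := D.act_π (eps k) res_eps

theorem ι_π (hι : D.π ≫ ι = D.act (DualNumber.eps : DualNumber k)) : ι ≫ D.π = 0 := by
  haveI := epi_π D
  rw [← cancel_epi D.π, ← Category.assoc, hι, eps_π, comp_zero]

theorem dual_decomp (a : DualNumber k) :
    a = algebraMap k (DualNumber k) (TrivSqZeroExt.fst a) +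
      algebraMap k (DualNumber k) (TrivSqZeroExt.snd a) * DualNumber.eps := by
  ext <;> simp [TrivSqZeroExt.algebraMap_eq_inl]

theorem eq_decomp (a : dual k k) : a = algebraMap k (dual k k) (TrivSqZeroExt.fst (a : DualNumber k)) +
    algebraMap k (dual k k) (TrivSqZeroExt.snd (a : DualNumber k)) * eps k := by
  exact dual_decomp a

theorem mem_span_eps (a : dual k k) (ha : a ∈ IsLocalRing.maximalIdeal (dual k k)) :
    a = eps k * algebraMap k (dual k k) (TrivSqZeroExt.snd (a : DualNumber k)) := by
  have h0 : TrivSqZeroExt.fst (a : DualNumber k) = 0 := (Art.mem_maximalIdeal_iff _ _).1 ha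
  have key : ∀ b : DualNumber k, TrivSqZeroExt.fst b = 0 →
      b = DualNumber.eps * algebraMap k (DualNumber k) (TrivSqZeroExt.snd b) := fun b hb => by
    ext <;> simp [hb, TrivSqZeroExt.algebraMap_eq_inl]
  exact key a h0

theorem stalk_shortExact (hι : D.π ≫ ι = D.act (DualNumber.eps : DualNumber k)) (x : X) :
    ((ShortComplex.mk ι D.π (ι_π D hι)).map (DerSch.stalkFunctor X x)).ShortExact := by
  letI := D.stalkMod x
  haveI : Module.Flat (dual k k) (D.sheaf.presheaf.stalk x) := D.flat x
  have hεapp : ∀ d, RefHull.stalkMapₗ ι x (RefHull.stalkMapₗ D.π x d) =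
      eps k • d := fun d => by
    rw [← DefoSh.stalkMapₗ_comp_apply, hι]
    rfl
  refine ShortComplex.ShortExact.mk' ?_ ?_ ((ModuleCat.epi_iff_surjective _).2 (D.surj x))
  · rw [ShortComplex.moduleCat_exact_iff]
    intro v hv
    have hv' : RefHull.stalkMapₗ D.π x v = 0 := hv
    have hm : ∀ w ∈ (IsLocalRing.maximalIdeal (dual k k)) • (⊤ : Submodule (dual k k) (D.sheaf.presheaf.stalk x)),
        ∃ e, RefHull.stalkMapₗ ι x e = w := by
      intro w hw
      refine Submodule.smul_induction_on hw (fun a ha d _ => ?_) (fun p q hp hq => ?_)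
      · refine ⟨RefHull.stalkMapₗ D.π x (algebraMap k (dual k k) (TrivSqZeroExt.snd (a : DualNumber k)) • d), ?_⟩
        rw [hεapp, ← mul_smul]
        congr 1
        exact (mem_span_eps a ha).symm
      · obtain ⟨e, rfl⟩ := hp
        obtain ⟨e', rfl⟩ := hq
        exact ⟨e + e', map_add _ _ _⟩
    exact hm v (D.ker_le x v hv')
  · rw [ModuleCat.mono_iff_injective, injective_iff_map_eq_zero]
    intro e he
    obtain ⟨d, rfl⟩ := D.surj x e
    have he' : eps k • d = 0 := (hεapp d).symm.trans he
    obtain ⟨l, c, y, hy, hc⟩ := Module.Flat.isTrivialRelation_of_sum_smul_eq_zero (R := dual k k)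
      (M := D.sheaf.presheaf.stalk x) (ι := Unit) (f := fun _ => eps k)
      (x := fun _ => d) (by simpa using he')
    rw [show d = _ from hy ()]
    rw [map_sum]
    refine Finset.sum_eq_zero fun j _ => ?_
    show RefHull.stalkMapₗ D.π x (RefHull.stalkMapₗ (D.act (c () j)) x (y j)) = 0
    have hres : (dual k k).res (c () j) = 0 := by
      have h := congrArg TrivSqZeroExt.snd (show (eps k : DualNumber k) * (c () j : DualNumber k) = 0 by
        simpa using hc j)
      rw [TrivSqZeroExt.snd_mul] at h
      simp only [DualNumber.fst_eps, DualNumber.snd_eps, zero_smul, zero_add, TrivSqZeroExt.snd_zero] at h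
      show (c () j : DualNumber k).fst = 0
      simpa using h
    rw [← DefoSh.stalkMapₗ_comp_apply, D.act_π _ hres]
    exact DefoSh.stalkMapₗ_zero_apply _ _

theorem shortExact (hι : D.π ≫ ι = D.act (DualNumber.eps : DualNumber k)) :
    (ShortComplex.mk ι D.π (ι_π D hι)).ShortExact :=
  (KFlatLib.shortExact_iff_stalk _).2 (stalk_shortExact D hι)

theorem shortExact_tensor (hE : FlatMod.IsFinLocFree E) (Ω' : X.Modules)
    (hι : D.π ≫ ι = D.act (DualNumber.eps : DualNumber k)) :
    ((ShortComplex.mk ι D.π (ι_π D hι)).map (DCoh.tensorBi.flip.obj Ω')).ShortExact := by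
  refine (KFlatLib.shortExact_iff_stalk _).2 fun x => ?_
  haveI := QCoh.free_stalk_of_isFinLocFree hE x
  haveI : Module.Free (X.presheaf.stalk x) ((DerSch.stalkFunctor X x).obj E) :=
    (inferInstance : Module.Free (X.presheaf.stalk x) (E.presheaf.stalk x))
  haveI : Projective ((ShortComplex.mk ι D.π (ι_π D hι)).map (DerSch.stalkFunctor X x)).X₃ :=
    (IsProjective.iff_projective ((DerSch.stalkFunctor X x).obj E)).1 inferInstance
  have hs := (stalk_shortExact D hι x).splittingOfProjective
  refine ShortComplex.shortExact_of_iso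
    ((ShortComplex.mk ι D.π (ι_π D hι)).mapNatIso (KFlatLib.stalkTensorRightIso Ω' x)).symm ?_
  exact (hs.map (MonoidalCategory.tensorRight ((DerSch.stalkFunctor X x).obj Ω'))).shortExact

end Groth.Agent.DefoConnLib
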