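import Groth.Agent.DefoConnLib.Basic

/-! Differences of deformed connections. -/

set_option linter.style.haveILetI false
set_option backward.isDefEq.respectTransparency false
set_option backward.isDefEq.respectTransparency.types false

universe u

open CategoryTheory CategoryTheory.Limits AlgebraicGeometry Opposite ArtFun ArtFun.Art

namespace Groth.Agent.DefoConnLib

variable {X : Scheme.{u}}

/-- A linear morphism of the underlying abelian sheaves. -/
noncomputable def homOfLinear {M N : X.Modules} (φ : Coh.toAb M ⟶ Coh.toAb N)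
    (h : ∀ (U : X.Opens) (t : Γ(X, U)) (e : M.val.obj (op U)),
      ConnSh.secApp φ U (t • e) = t • ConnSh.secApp φ U e) : M ⟶ N :=
  ⟨PresheafOfModules.homMk φ.hom fun U s m => h U.unop s m⟩

theorem homOfLinear_app {M N : X.Modules} (φ : Coh.toAb M ⟶ Coh.toAb N) (h) (U : X.Opens) (e : M.val.obj (op U)) :
    (homOfLinear φ h).app U e = ConnSh.secApp φ U e := rfl

theorem toAb_homOfLinear {M N : X.Modules} (φ : Coh.toAb M ⟶ Coh.toAb N) (h) :
    (SheafOfModules.toSheaf X.ringCatSheaf).map (homOfLinear φ h) = φ := rfl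

theorem secApp_toAb {M N : X.Modules} (f : M ⟶ N) (U : X.Opens) (e : M.val.obj (op U)) :
    ConnSh.secApp ((SheafOfModules.toSheaf X.ringCatSheaf).map f) U e = f.app U e := rfl

theorem secApp_add {M N : X.Modules} (φ ψ : Coh.toAb M ⟶ Coh.toAb N) (U : X.Opens) (e : M.val.obj (op U)) :
    ConnSh.secApp (φ + ψ) U e = ConnSh.secApp φ U e + ConnSh.secApp ψ U e := rfl

theorem secApp_sub {M N : X.Modules} (φ ψ : Coh.toAb M ⟶ Coh.toAb N) (U : X.Opens) (e : M.val.obj (op U)) :
    ConnSh.secApp (φ - ψ) U e = ConnSh.secApp φ U e - ConnSh.secApp ψ U e := rfl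

theorem exists_factor_of_shortExact {C : Type*} [Category C] [Abelian C] {S S' : ShortComplex C}
    (hS : S.ShortExact) (hS' : S'.ShortExact) (h : S.X₂ ⟶ S'.X₂) (h1 : S.f ≫ h = 0) (h2 : h ≫ S'.g = 0) :
    ∃ φ, h = S.g ≫ φ ≫ S'.f := by
  haveI := hS.epi_g
  haveI := hS'.mono_f
  have h3 : hS.exact.desc h h1 ≫ S'.g = 0 := by
    rw [← cancel_epi S.g, ← Category.assoc, hS.exact.g_desc, h2, comp_zero]
  exact ⟨hS'.exact.lift _ h3, by rw [hS'.exact.lift_f, hS.exact.g_desc]⟩

/-- The underlying map of abelian sheaves. -/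
noncomputable def ab {M N : X.Modules} (f : M ⟶ N) : Coh.toAb M ⟶ Coh.toAb N :=
  (SheafOfModules.toSheaf X.ringCatSheaf).map f

theorem secApp_ab {M N : X.Modules} (f : M ⟶ N) (U : X.Opens) (e : M.val.obj (op U)) :
    ConnSh.secApp (ab f) U e = f.app U e := rfl

variable {Ω' : X.Modules}

/-- Tensoring with `Ω'` on the right. -/
noncomputable abbrev T (Ω' : X.Modules) : X.Modules ⥤ X.Modules := DCoh.tensorBi.flip.obj Ω'

theorem tensorMap_eq {M N : X.Modules} (f : M ⟶ N) : KoszTw.tensorMap f (𝟙 Ω') = (T Ω').map f :=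
  (KoszTw.tensorBi_map_app f Ω').symm

instance additive_T (Ω' : X.Modules) : (T Ω').Additive where
  map_add {M N f g} := by
    rw [← tensorMap_eq, ← tensorMap_eq, ← tensorMap_eq]
    refine tensor_hom_ext fun U s t => ?_
    rw [KoszTw.tensorMap_tmul]
    show _ = (KoszTw.tensorMap f (𝟙 Ω')).app U (SecTwist.tmul M Ω' U s t) +
      (KoszTw.tensorMap g (𝟙 Ω')).app U (SecTwist.tmul M Ω' U s t)
    rw [KoszTw.tensorMap_tmul, KoszTw.tensorMap_tmul]
    exact (congrArg ((SecTwist.toTensor N Ω').app (op U)).hom (TensorProduct.add_tmul _ _ _)).trans (map_add _ _ _)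

variable {k : Type u} [Field k] [X.Over (Spec (CommRingCat.of k))]
  {δ : OmegaSh.Der (X ↘ Spec (CommRingCat.of k)) Ω'} {E : X.Modules}
  {nabla : Coh.toAb E ⟶ Coh.toAb (CohB1.tensorMod E Ω')}
  {D : DefoSh.Defo E (dual k k)} {ι : E ⟶ D.sheaf}

/-- The difference of two deformations of a connection, as a linear map. -/
noncomputable def diff (c c₀ : DefoSh.DefoConn δ nabla D) : D.sheaf ⟶ (T Ω').obj D.sheaf :=
  homOfLinear (c.conn - c₀.conn) fun U t e => by
    rw [secApp_sub, secApp_sub]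
    erw [c.isConn U t e, c₀.isConn U t e, smul_sub]
    abel

theorem act_comm (c c₀ : DefoSh.DefoConn δ nabla D) (a : dual k k) :
    D.act a ≫ diff c c₀ = diff c c₀ ≫ (T Ω').map (D.act a) := by
  refine Scheme.Modules.hom_ext _ _ fun U => ?_
  ext e
  show ConnSh.secApp (c.conn - c₀.conn) U ((Scheme.Modules.Hom.app (D.act a) U) e) =
    ((T Ω').map (D.act a)).app U (ConnSh.secApp (c.conn - c₀.conn) U e)
  rw [secApp_sub, secApp_sub, map_sub]
  erw [c.act_horizontal a U e, c₀.act_horizontal a U e]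
  rw [tensorMap_eq]
  rfl

theorem diff_π (c c₀ : DefoSh.DefoConn δ nabla D) : diff c c₀ ≫ (T Ω').map D.π = 0 := by
  refine Scheme.Modules.hom_ext _ _ fun U => ?_
  ext e
  show ((T Ω').map D.π).app U (ConnSh.secApp (c.conn - c₀.conn) U e) = _
  rw [secApp_sub, map_sub, ← tensorMap_eq]
  erw [← c.π_horizontal, ← c₀.π_horizontal, sub_self]
  rfl

theorem exists_factor (hE : FlatMod.IsFinLocFree E) (hι : D.π ≫ ι = D.act (DualNumber.eps : DualNumber k))
    (c c₀ : DefoSh.DefoConn δ nabla D) :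
    ∃ φ : E ⟶ CohB1.tensorMod E Ω', diff c c₀ = D.π ≫ φ ≫ (T Ω').map ι := by
  haveI := epi_π D
  have hε : D.act (eps k) ≫ diff c c₀ = 0 := by
    rw [act_comm, show D.act (eps k) = D.π ≫ ι from hι.symm, Functor.map_comp, ← Category.assoc, diff_π, zero_comp]
  have h1 : ι ≫ diff c c₀ = 0 := by
    rw [← cancel_epi D.π, ← Category.assoc, hι, hε, comp_zero]
  exact exists_factor_of_shortExact (shortExact D hι) (shortExact_tensor D hE Ω' hι) _ h1 (diff_π c c₀)

theorem comm_smulMod {M : X.Modules} (f : M ⟶ (T Ω').obj M) (r : k) :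
    Formal.smulMod k M r ≫ f = f ≫ (T Ω').map (Formal.smulMod k M r) := by
  rw [← tensorMap_eq]
  erw [tensorMap_smulModΓ]
  exact (KLin.comp_smulModΓ f _).symm

theorem comm_of_ι (hι : D.π ≫ ι = D.act (DualNumber.eps : DualNumber k))
    (φ : E ⟶ (T Ω').obj E) (a : dual k k) :
    D.act a ≫ (D.π ≫ φ ≫ (T Ω').map ι) = (D.π ≫ φ ≫ (T Ω').map ι) ≫ (T Ω').map (D.act a) := by
  haveI : (T Ω').Additive := inferInstance
  set h := D.π ≫ φ ≫ (T Ω').map ι
  have hιε : ι ≫ D.act (eps k) = 0 := by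
    rw [show D.act (eps k) = D.π ≫ ι from hι.symm, ← Category.assoc, ι_π D hι, zero_comp]
  have hE0 : D.act (eps k) ≫ h = h ≫ (T Ω').map (D.act (eps k)) := by
    simp only [h, Category.assoc, ← Functor.map_comp, hιε, Functor.map_zero, comp_zero]
    rw [← Category.assoc, show D.act (eps k) ≫ D.π = 0 from eps_π D, zero_comp]
  have hS : ∀ r : k, D.act (algebraMap k (dual k k) r) ≫ h = h ≫ (T Ω').map (D.act (algebraMap k (dual k k) r)) :=
    fun r => by rw [D.act_algebraMap]; exact comm_smulMod h r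
  rw [eq_decomp a, map_add, map_mul, End.mul_def]
  erw [Functor.map_add, Preadditive.add_comp, Preadditive.comp_add, Functor.map_comp, Category.assoc,
    hS, Category.assoc, hS, reassoc_of% hE0]

theorem isHorizontal_add {M M' : X.Modules} {c : Coh.toAb M ⟶ Coh.toAb (CohB1.tensorMod M Ω')}
    {c' : Coh.toAb M' ⟶ Coh.toAb (CohB1.tensorMod M' Ω')} {f : M ⟶ M'} (hf : ConnSh.IsHorizontal c c' f)
    (g : M ⟶ CohB1.tensorMod M Ω') (g' : M' ⟶ CohB1.tensorMod M' Ω')
    (h : f ≫ g' = g ≫ KoszTw.tensorMap f (𝟙 Ω')) : ConnSh.IsHorizontal (c + ab g) (c' + ab g') f := by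
  intro U e
  rw [secApp_add, secApp_add, map_add, hf U e, secApp_ab, secApp_ab]
  congr 1
  exact congr(($h).app U e)

theorem isHorizontal_add_left {M M' : X.Modules} {c : Coh.toAb M ⟶ Coh.toAb (CohB1.tensorMod M Ω')}
    {c' : Coh.toAb M' ⟶ Coh.toAb (CohB1.tensorMod M' Ω')} {f : M ⟶ M'} (hf : ConnSh.IsHorizontal c c' f)
    (g : M ⟶ CohB1.tensorMod M Ω')
    (h : g ≫ KoszTw.tensorMap f (𝟙 Ω') = 0) : ConnSh.IsHorizontal (c + ab g) c' f := by
  intro U e
  rw [secApp_add, map_add, hf U e, secApp_ab]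
  have h0 : (KoszTw.tensorMap f (𝟙 Ω')).app U (g.app U e) = 0 := congr(($h).app U e)
  rw [h0, add_zero]

theorem isConn_add {M : X.Modules} {c : Coh.toAb M ⟶ Coh.toAb (CohB1.tensorMod M Ω')}
    (hc : ConnSh.IsConn δ M c) (g : M ⟶ CohB1.tensorMod M Ω') : ConnSh.IsConn δ M (c + ab g) := by
  intro U t e
  have h1 : g.app U (t • e) = t • g.app U e := Scheme.Modules.Hom.app_smul g t e
  rw [secApp_add, secApp_add, hc U t e, secApp_ab, secApp_ab, smul_add]
  erw [h1]
  abel

/-- A connection moved by a linear map. -/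
noncomputable def translate (hι : D.π ≫ ι = D.act (DualNumber.eps : DualNumber k))
    (c₀ : DefoSh.DefoConn δ nabla D) (φ : E ⟶ CohB1.tensorMod E Ω') : DefoSh.DefoConn δ nabla D where
  conn := c₀.conn + ab (N := CohB1.tensorMod D.sheaf Ω') (D.π ≫ φ ≫ (T Ω').map ι)
  isConn := isConn_add c₀.isConn _
  act_horizontal a := isHorizontal_add (c₀.act_horizontal a) _ _
    (by rw [tensorMap_eq]; exact comm_of_ι hι φ a)
  π_horizontal := isHorizontal_add_left c₀.π_horizontal _ (by
    haveI : (T Ω').Additive := inferInstance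
    rw [tensorMap_eq]
    change (D.π ≫ φ ≫ (T Ω').map ι) ≫ (T Ω').map D.π = 0
    simp only [Category.assoc, ← Functor.map_comp, ι_π D hι, Functor.map_zero, comp_zero])

end Groth.Agent.DefoConnLib
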