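import Groth.Agent.DefoConnLib.Basic
import Groth.Agent.PervTLib.ExtUniq
import Groth.Agent.AffDefLib.Dual

/-! First-order deformations of a module and extensions of the module by itself. -/

set_option linter.style.haveILetI false
set_option backward.isDefEq.respectTransparency false
set_option backward.isDefEq.respectTransparency.types false

universe u

open CategoryTheory CategoryTheory.Limits AlgebraicGeometry Opposite ArtFun ArtFun.Art CategoryTheory.Abelian
open CategoryTheory.Pretriangulated DerivedCategory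

namespace Groth.Agent.DefoConnLib

section Uniq

universe v w w'

variable {A : Type w} [Category.{v} A] [Abelian A] [HasExt.{w'} A]

theorem exists_iso_of_extClass_eq {F Q X X' : A} {i : F ⟶ X} {q : X ⟶ Q} {i' : F ⟶ X'} {q' : X' ⟶ Q}
    {w : i ≫ q = 0} {w' : i' ≫ q' = 0} (hS : (ShortComplex.mk i q w).ShortExact)
    (hS' : (ShortComplex.mk i' q' w').ShortExact) (h : hS.extClass = hS'.extClass) :
    ∃ e : X ≅ X', i ≫ e.hom = i' ∧ e.hom ≫ q' = q := by
  letI := HasDerivedCategory.standard A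
  let s := singleFunctor A 0
  let sh := shiftFunctor (DerivedCategory A) (1 : ℤ)
  have hcomm : hS.singleTriangle.rotate.rotate.mor₁ ≫ (Iso.refl ((s.obj F)⟦(1 : ℤ)⟧)).hom =
      (Iso.refl (s.obj Q)).hom ≫ hS'.singleTriangle.rotate.rotate.mor₁ := by
    have hδ : hS.singleδ = hS'.singleδ := by rw [← hS.extClass_hom, ← hS'.extClass_hom, h]
    exact (Category.comp_id _).trans (hδ.trans (Category.id_comp _).symm)
  let φ := isoTriangleOfIso₁₂ hS.singleTriangle.rotate.rotate hS'.singleTriangle.rotate.rotate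
        (rot_of_distTriang _ (rot_of_distTriang _ hS.singleTriangle_distinguished))
        (rot_of_distTriang _ (rot_of_distTriang _ hS'.singleTriangle_distinguished))
        (Iso.refl _) (Iso.refl _) hcomm
  let e : s.obj X ≅ s.obj X' := sh.preimageIso (Triangle.π₃.mapIso φ)
  have he : sh.map e.hom = φ.hom.hom₃ := sh.map_preimage _
  refine ⟨s.preimageIso e, s.map_injective (sh.map_injective ?_), s.map_injective (sh.map_injective ?_)⟩
  · have h2 : (-sh.map (s.map i)) ≫ φ.hom.hom₃ = 𝟙 _ ≫ (-sh.map (s.map i')) := φ.hom.comm₂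
    rw [Category.id_comp, Preadditive.neg_comp, neg_inj] at h2
    rw [s.map_comp, show s.map (s.preimageIso e).hom = e.hom from s.map_preimage _, sh.map_comp, he]
    exact h2
  · have h3 : (-sh.map (s.map q)) ≫ sh.map (𝟙 (s.obj Q)) = φ.hom.hom₃ ≫ (-sh.map (s.map q')) := φ.hom.comm₃
    rw [sh.map_id, Category.comp_id, Preadditive.comp_neg, neg_inj] at h3
    rw [s.map_comp, show s.map (s.preimageIso e).hom = e.hom from s.map_preimage _, sh.map_comp, he]
    exact h3.symm

theorem extClass_eq_of_iso {F Q X X' : A} {i : F ⟶ X} {q : X ⟶ Q} {i' : F ⟶ X'} {q' : X' ⟶ Q}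
    {w : i ≫ q = 0} {w' : i' ≫ q' = 0} (hS : (ShortComplex.mk i q w).ShortExact)
    (hS' : (ShortComplex.mk i' q' w').ShortExact) (e : X ⟶ X') (h₁ : i ≫ e = i') (h₂ : e ≫ q' = q) :
    hS.extClass = hS'.extClass := by
  have h := ShortComplex.ShortExact.extClass_naturality hS hS'
    (ShortComplex.Hom.mk (𝟙 F) e (𝟙 Q) (by simpa using h₁.symm) (by simpa using h₂))
  simpa using h

theorem extClass_eq_zero_of_section {F Q X : A} {i : F ⟶ X} {q : X ⟶ Q}
    {w : i ≫ q = 0} (hS : (ShortComplex.mk i q w).ShortExact) (s : Q ⟶ X) (hs : s ≫ q = 𝟙 Q) :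
    hS.extClass = 0 := by
  have h := congrArg (fun z => (Ext.mk₀ s).comp z (zero_add 1)) hS.comp_extClass
  simpa [Ext.mk₀_comp_mk₀_assoc, hs] using h

end Uniq

variable {k : Type u} [Field k] {X : Scheme.{u}} [X.Over (Spec (CommRingCat.of k))] {E : X.Modules}

theorem hom_ext_stalk {M N : X.Modules} (a b : M ⟶ N)
    (h : ∀ (x : X) (v : M.presheaf.stalk x), RefHull.stalkMapₗ a x v = RefHull.stalkMapₗ b x v) : a = b := by
  refine Scheme.Modules.hom_ext _ _ fun U => ?_
  ext s
  refine TopCat.Presheaf.section_ext ⟨N.presheaf, N.isSheaf⟩ U _ _ fun y hy => ?_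
  have := h y (M.presheaf.germ U y hy s)
  rwa [RefHull.stalkMapₗ_germ, RefHull.stalkMapₗ_germ] at this

theorem exists_ι (D : DefoSh.Defo E (dual k k)) :
    ∃ ι : E ⟶ D.sheaf, D.π ≫ ι = D.act (DualNumber.eps : DualNumber k) := by
  haveI := epi_π D
  refine ⟨Abelian.epiDesc D.π (D.act (eps k)) ?_, Abelian.comp_epiDesc _ _ _⟩
  refine hom_ext_stalk _ _ fun x w => ?_
  rw [DefoSh.stalkMapₗ_comp_apply, DefoSh.stalkMapₗ_zero_apply]
  have hv : RefHull.stalkMapₗ D.π x (RefHull.stalkMapₗ (kernel.ι D.π) x w) = 0 := by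
    rw [← DefoSh.stalkMapₗ_comp_apply, kernel.condition, DefoSh.stalkMapₗ_zero_apply]
  have hm := D.ker_le x _ hv
  letI := D.stalkMod x
  show eps k • RefHull.stalkMapₗ (kernel.ι D.π) x w = 0
  refine Submodule.smul_induction_on hm (fun a ha d _ => ?_) fun p q hp hq => by rw [smul_add, hp, hq, add_zero]
  rw [mem_span_eps a ha, ← mul_smul, ← mul_assoc,
    show eps k * eps k = 0 from DualNumber.eps_mul_eps (R := k), zero_mul, zero_smul]

/-- The class of a deformation. -/
noncomputable def cls [HasExt.{u} X.Modules] (D : DefoSh.Defo E (dual k k)) : Abelian.Ext E E 1 :=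
  (shortExact D (Classical.choose_spec (exists_ι D))).extClass

theorem cls_eq [HasExt.{u} X.Modules] (D : DefoSh.Defo E (dual k k)) (i : E ⟶ D.sheaf)
    (hi : D.π ≫ i = D.act (DualNumber.eps : DualNumber k)) {h0 : i ≫ D.π = 0}
    (hS : (ShortComplex.mk i D.π h0).ShortExact) : cls D = hS.extClass := by
  haveI := epi_π D
  obtain rfl : i = Classical.choose (exists_ι D) :=
    (cancel_epi D.π).1 (hi.trans (Classical.choose_spec (exists_ι D)).symm)
  rfl

theorem cls_iso [HasExt.{u} X.Modules] (D D' : DefoSh.Defo E (dual k k)) (e : DefoSh.Defo.Iso D D') :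
    cls D = cls D' := by
  haveI := epi_π D
  obtain ⟨i, hi⟩ := exists_ι D
  obtain ⟨i', hi'⟩ := exists_ι D'
  rw [cls_eq D i hi (shortExact D hi), cls_eq D' i' hi' (shortExact D' hi')]
  refine extClass_eq_of_iso _ _ e.iso.hom ((cancel_epi D.π).1 ?_) e.hom_π
  rw [← Category.assoc, hi]
  erw [e.act_hom (eps k)]
  rw [show D'.act (eps k) = D'.π ≫ i' from hi'.symm, reassoc_of% e.hom_π]

theorem nonempty_iso_of_cls_eq [HasExt.{u} X.Modules] (D D' : DefoSh.Defo E (dual k k)) (h : cls D = cls D') :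
    Nonempty (DefoSh.Defo.Iso D D') := by
  obtain ⟨i, hi⟩ := exists_ι D
  obtain ⟨i', hi'⟩ := exists_ι D'
  rw [cls_eq D i hi (shortExact D hi), cls_eq D' i' hi' (shortExact D' hi')] at h
  obtain ⟨e, he₁, he₂⟩ := exists_iso_of_extClass_eq _ _ h
  refine ⟨⟨e, fun a => ?_, he₂⟩⟩
  have hε : D.act (eps k) ≫ e.hom = e.hom ≫ D'.act (eps k) := by
    rw [show D.act (eps k) = D.π ≫ i from hi.symm, show D'.act (eps k) = D'.π ≫ i' from hi'.symm,
      Category.assoc, he₁, reassoc_of% he₂]
  have hS : ∀ r : k, D.act (algebraMap k (dual k k) r) ≫ e.hom = e.hom ≫ D'.act (algebraMap k (dual k k) r) :=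
    fun r => by rw [D.act_algebraMap, D'.act_algebraMap]; exact (KLin.comp_smulModΓ e.hom _).symm
  rw [eq_decomp a, map_add, map_mul, map_add, map_mul, End.mul_def, End.mul_def]
  erw [Preadditive.add_comp, Preadditive.comp_add, Category.assoc, hS, hS, reassoc_of% hε]

theorem exists_defo_of_extension {M : X.Modules} (i : E ⟶ M) (q : M ⟶ E) (w : i ≫ q = 0)
    (hS : (ShortComplex.mk i q w).ShortExact) :
    ∃ D : DefoSh.Defo E (dual k k), ∃ e : D.sheaf = M,
      D.π ≫ (i ≫ eqToHom e.symm) = D.act (DualNumber.eps : DualNumber k) ∧ eqToHom e.symm ≫ D.π = q := by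
  let n : End M := q ≫ i
  have hsq : n * n = 0 := by
    show (q ≫ i) ≫ (q ≫ i) = 0
    rw [Category.assoc, reassoc_of% w, zero_comp, comp_zero]
  let act : DualNumber k →ₐ[k] End M := DualNumber.lift ⟨(Algebra.ofId k (End M), n),
    hsq, fun a => (Algebra.commutes a n).symm⟩
  have hε : act DualNumber.eps = (q ≫ i : M ⟶ M) := DualNumber.lift_apply_eps _
  have hfst : ∀ a : DualNumber k, a.fst = 0 → (act a : M ⟶ M) ≫ q = 0 := fun a ha => by
    rw [dual_decomp a, ha, map_zero, zero_add, mul_comm, map_mul, End.mul_def]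
    erw [hε, Category.assoc, Category.assoc, w, comp_zero]
  have hst := fun x => (KFlatLib.shortExact_iff_stalk _).1 hS x
  refine ⟨⟨M, act, q, fun a ha => hfst a ha,
    fun p => (ModuleCat.epi_iff_surjective _).1 (hst p).epi_g, fun p v hv => ?_, fun p => ?_⟩, rfl, ?_, ?_⟩
  · obtain ⟨e, he⟩ := (ShortComplex.moduleCat_exact_iff _).1 (hst p).exact v hv
    obtain ⟨d, hd⟩ := (ModuleCat.epi_iff_surjective _).1 (hst p).epi_g e
    letI : Module (dual k k) (M.presheaf.stalk p) := DefoSh.stalkModule M act.toRingHom p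
    let d' : M.presheaf.stalk p := d
    have hv' : v = eps k • d' := by
      show v = RefHull.stalkMapₗ (act DualNumber.eps : M ⟶ M) p d
      rw [hε]
      refine (he.symm.trans ?_).trans (DefoSh.stalkMapₗ_comp_apply p q i d).symm
      rw [← hd]
      rfl
    rw [hv']
    exact Submodule.smul_mem_smul ((Art.mem_maximalIdeal_iff _ _).2 res_eps) Submodule.mem_top
  · letI : Module (dual k k) (M.presheaf.stalk p) := DefoSh.stalkModule M act.toRingHom p
    refine AffDefLib.flat_of_principal (eps k) (DualNumber.eps_mul_eps (R := k))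
      (AffDefLib.dual_maximalIdeal (k := k) ▸ IsLocalRing.maximalIdeal.isMaximal _) fun m hm => ?_
    have hm' : RefHull.stalkMapₗ i p (RefHull.stalkMapₗ q p m) = 0 := by
      rw [← DefoSh.stalkMapₗ_comp_apply, ← hε]
      exact hm
    have hq0 : RefHull.stalkMapₗ q p m = 0 :=
      (ModuleCat.mono_iff_injective _).1 (hst p).mono_f (hm'.trans (map_zero _).symm)
    obtain ⟨e, he⟩ := (ShortComplex.moduleCat_exact_iff _).1 (hst p).exact m hq0
    obtain ⟨d, hd⟩ := (ModuleCat.epi_iff_surjective _).1 (hst p).epi_g e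
    refine ⟨d, ?_⟩
    show m = RefHull.stalkMapₗ (act DualNumber.eps : M ⟶ M) p d
    rw [hε]
    refine (he.symm.trans ?_).trans (DefoSh.stalkMapₗ_comp_apply p q i d).symm
    rw [← hd]
    rfl
  · simp only [eqToHom_refl, Category.comp_id]
    exact hε.symm
  · simp

end Groth.Agent.DefoConnLib
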