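import Groth.Agent.DefoConnLib.Transport

/-! Connections are linear over the constants. -/

set_option linter.style.haveILetI false
set_option backward.isDefEq.respectTransparency false
set_option backward.isDefEq.respectTransparency.types false

universe u

open CategoryTheory CategoryTheory.Limits AlgebraicGeometry Opposite ArtFun ArtFun.Art

namespace Groth.Agent.DefoConnLib

variable {k : Type u} [Field k] {X : Scheme.{u}} [X.Over (Spec (CommRingCat.of k))] {Ω' : X.Modules}

theorem der_const (δ : OmegaSh.Der (X ↘ Spec (CommRingCat.of k)) Ω') (r : k) (U : X.Opens) :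
    δ.app U (X.presheaf.map (homOfLE (le_top : U ≤ ⊤)).op (Coh.toGlobal (X ↘ Spec (CommRingCat.of k)) r)) = 0 := by
  have h0 : δ.app ⊤ (Coh.toGlobal (X ↘ Spec (CommRingCat.of k)) r) = 0 :=
    δ.d_app (X := op (⊤ : (Spec (CommRingCat.of k)).Opens)) _
  have h1 : δ.app U (X.presheaf.map (homOfLE (le_top : U ≤ ⊤)).op (Coh.toGlobal (X ↘ Spec (CommRingCat.of k)) r)) =
      Ω'.val.map (homOfLE (le_top : U ≤ ⊤)).op (δ.app ⊤ (Coh.toGlobal (X ↘ Spec (CommRingCat.of k)) r)) :=
    δ.d_map (homOfLE (le_top : U ≤ ⊤)).op _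
  rw [h1, h0]
  exact map_zero _

variable {δ : OmegaSh.Der (X ↘ Spec (CommRingCat.of k)) Ω'} {M : X.Modules}
  {c : Coh.toAb M ⟶ Coh.toAb (CohB1.tensorMod M Ω')}

theorem isHorizontal_smulMod (hc : ConnSh.IsConn δ M c) (r : k) :
    ConnSh.IsHorizontal c c (Formal.smulMod k M r) := by
  intro U e
  rw [Formal.smulMod, tensorMap_smulModΓ]
  erw [KLin.smulModΓ_app_apply, KLin.smulModΓ_app_apply, hc]
  erw [der_const δ r U]
  erw [show SecTwist.tmul M Ω' U e 0 = 0 from
    (congrArg ((SecTwist.toTensor M Ω').app (op U)).hom (TensorProduct.tmul_zero _ e)).trans (map_zero _)]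
  exact add_zero _

theorem isHorizontal_addHom {M' : X.Modules} {c' : Coh.toAb M' ⟶ Coh.toAb (CohB1.tensorMod M' Ω')}
    {f g : M ⟶ M'} (hf : ConnSh.IsHorizontal c c' f) (hg : ConnSh.IsHorizontal c c' g) :
    ConnSh.IsHorizontal c c' (f + g) := by
  haveI : (T Ω').Additive := inferInstance
  rw [horizontal_iff] at *
  rw [ab_add, Preadditive.add_comp, hf, hg, tensorMap_eq, tensorMap_eq, tensorMap_eq, Functor.map_add, ab_add,
    Preadditive.comp_add]

theorem horizontal_act {E : X.Modules} {D : DefoSh.Defo E (dual k k)}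
    {c : Coh.toAb D.sheaf ⟶ Coh.toAb (CohB1.tensorMod D.sheaf Ω')} (hc : ConnSh.IsConn δ D.sheaf c)
    (hε : ConnSh.IsHorizontal c c (D.act (eps k))) (a : dual k k) : ConnSh.IsHorizontal c c (D.act a) := by
  rw [eq_decomp a, map_add, map_mul, End.mul_def]
  refine isHorizontal_addHom ?_ (DefoSh.isHorizontal_comp hε ?_)
  · rw [D.act_algebraMap]; exact isHorizontal_smulMod hc _
  · rw [D.act_algebraMap]; exact isHorizontal_smulMod hc _

end Groth.Agent.DefoConnLib
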