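import Groth.Agent.DefoConnLib.Scalar

/-! A split first-order deformation carries a deformation of every connection. -/

set_option linter.style.haveILetI false
set_option backward.isDefEq.respectTransparency false
set_option backward.isDefEq.respectTransparency.types false

universe u

open CategoryTheory CategoryTheory.Limits AlgebraicGeometry Opposite ArtFun ArtFun.Art

namespace Groth.Agent.DefoConnLib

variable {X : Scheme.{u}} {Ω' : X.Modules}

theorem tmul_add_left {M : X.Modules} (U : X.Opens) (m m' : M.val.obj (op U)) (w : Ω'.val.obj (op U)) :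
    SecTwist.tmul M Ω' U (m + m') w = SecTwist.tmul M Ω' U m w + SecTwist.tmul M Ω' U m' w :=
  (congrArg ((SecTwist.toTensor M Ω').app (op U)).hom (TensorProduct.add_tmul m m' w)).trans (map_add _ _ _)

/-- The connection transported through a morphism of modules. -/
noncomputable def through {M E : X.Modules} (nabla : Coh.toAb E ⟶ Coh.toAb (CohB1.tensorMod E Ω')) (p : M ⟶ E)
    (q : E ⟶ M) : Coh.toAb M ⟶ Coh.toAb (CohB1.tensorMod M Ω') :=
  ab p ≫ nabla ≫ ab (KoszTw.tensorMap q (𝟙 Ω'))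

variable {k : Type u} [Field k] [X.Over (Spec (CommRingCat.of k))]
  {δ : OmegaSh.Der (X ↘ Spec (CommRingCat.of k)) Ω'} {E M : X.Modules}
  {nabla : Coh.toAb E ⟶ Coh.toAb (CohB1.tensorMod E Ω')}

theorem secApp_through (p : M ⟶ E) (q : E ⟶ M) (U : X.Opens) (e : M.val.obj (op U)) :
    ConnSh.secApp (through nabla p q) U e =
      (KoszTw.tensorMap q (𝟙 Ω')).app U (ConnSh.secApp nabla U (p.app U e)) := rfl

theorem secApp_through_smul (hn : ConnSh.IsConn δ E nabla) (p : M ⟶ E) (q : E ⟶ M) (U : X.Opens) (t : Γ(X, U))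
    (e : M.val.obj (op U)) :
    ConnSh.secApp (through nabla p q) U (t • e) = t • ConnSh.secApp (through nabla p q) U e +
      SecTwist.tmul M Ω' U (q.app U (p.app U e)) (δ.app U t) := by
  rw [secApp_through, secApp_through]
  have h1 : p.app U (t • e) = t • p.app U e := Scheme.Modules.Hom.app_smul p t e
  erw [h1, hn]
  rw [map_add]
  congr 1
  · exact Scheme.Modules.Hom.app_smul (KoszTw.tensorMap q (𝟙 Ω')) t _
  · exact KoszTw.tensorMap_tmul q (𝟙 Ω') U _ _

theorem isConn_split (hn : ConnSh.IsConn δ E nabla) (p s : M ⟶ E) (q i : E ⟶ M) (h : p ≫ q + s ≫ i = 𝟙 M) :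
    ConnSh.IsConn δ M (through nabla p q + through nabla s i) := by
  intro U t e
  have he : q.app U (p.app U e) + i.app U (s.app U e) = e := congr(($h).app U e)
  have h2 := tmul_add_left (Ω' := Ω') U (q.app U (p.app U e)) (i.app U (s.app U e)) (δ.app U t)
  rw [he] at h2
  rw [secApp_add, secApp_add, secApp_through_smul hn, secApp_through_smul hn]
  erw [h2, smul_add]
  abel

theorem ab_zero (M N : X.Modules) : ab (0 : M ⟶ N) = 0 := (SheafOfModules.toSheaf X.ringCatSheaf).map_zero _ _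

theorem exists_defoConn_of_split (hn : ConnSh.IsConn δ E nabla) (D : DefoSh.Defo E (dual k k))
    {ι il : E ⟶ D.sheaf} {sn : D.sheaf ⟶ E} (hι : D.π ≫ ι = D.act (DualNumber.eps : DualNumber k))
    (hsum : D.π ≫ il + sn ≫ ι = 𝟙 D.sheaf) (hιs : ι ≫ sn = 𝟙 E) (hlπ : il ≫ D.π = 𝟙 E) :
    Nonempty (DefoSh.DefoConn δ nabla D) := by
  haveI : (T Ω').Additive := inferInstance
  have hιπ : ι ≫ D.π = 0 := ι_π D hι
  have hmap : ∀ (f g : E ⟶ E), f = g → ab (KoszTw.tensorMap f (𝟙 Ω')) = ab (KoszTw.tensorMap g (𝟙 Ω')) :=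
    fun f g h => h ▸ rfl
  let g := through nabla D.π il + through nabla sn ι
  have hc : ConnSh.IsConn δ D.sheaf g := isConn_split hn D.π sn il ι hsum
  have hcomp : ∀ {A B C : X.Modules} (f : A ⟶ B) (f' : B ⟶ C),
      ab (KoszTw.tensorMap f (𝟙 Ω')) ≫ ab (KoszTw.tensorMap f' (𝟙 Ω')) = ab (KoszTw.tensorMap (f ≫ f') (𝟙 Ω')) :=
    fun f f' => by rw [← ab_comp, ← KoszTw.tensorMap_comp, Category.id_comp]
  have hid : ∀ A : X.Modules, ab (KoszTw.tensorMap (𝟙 A) (𝟙 Ω')) = 𝟙 _ := fun A => by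
    rw [KoszTw.tensorMap_id, ab_id]
  have hzero : ∀ A B : X.Modules, ab (KoszTw.tensorMap (0 : A ⟶ B) (𝟙 Ω')) = 0 := fun A B => by
    rw [tensorMap_eq, Functor.map_zero]; exact ab_zero _ _
  have hπ : ConnSh.IsHorizontal g nabla D.π := (horizontal_iff _ _ _).2 (by
    simp only [g, through, Preadditive.add_comp, Category.assoc, hcomp, hlπ, hιπ, hid, hzero, Category.comp_id,
      comp_zero, add_zero])
  have hE0 : ConnSh.IsHorizontal g g (D.act (eps k)) := (horizontal_iff _ _ _).2 (by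
    have e1 : ab (D.π ≫ ι) ≫ ab D.π = 0 := by rw [← ab_comp, Category.assoc, hιπ, comp_zero, ab_zero]
    have e2 : ab (D.π ≫ ι) ≫ ab sn = ab D.π := by rw [← ab_comp, Category.assoc, hιs, Category.comp_id]
    rw [show D.act (eps k) = D.π ≫ ι from hι.symm]
    simp only [g, through, Preadditive.add_comp, Preadditive.comp_add, Category.assoc, hcomp, reassoc_of% e1,
      reassoc_of% e2, reassoc_of% hlπ, reassoc_of% hιπ, zero_comp, hzero, comp_zero, zero_add, add_zero])
  exact ⟨⟨g, hc, horizontal_act hc hE0, hπ⟩⟩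

end Groth.Agent.DefoConnLib
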