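import Groth.Agent.DefoConnLib.Conn

/-! Transport equivalence of deformed connections. -/

set_option linter.style.haveILetI false
set_option backward.isDefEq.respectTransparency false
set_option backward.isDefEq.respectTransparency.types false

universe u

open CategoryTheory CategoryTheory.Limits AlgebraicGeometry Opposite ArtFun ArtFun.Art

namespace Groth.Agent.DefoConnLib

variable {X : Scheme.{u}} {Ω' : X.Modules}

theorem ab_comp {M N P : X.Modules} (f : M ⟶ N) (g : N ⟶ P) : ab (f ≫ g) = ab f ≫ ab g :=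
  (SheafOfModules.toSheaf X.ringCatSheaf).map_comp f g

theorem ab_id (M : X.Modules) : ab (𝟙 M) = 𝟙 (Coh.toAb M) :=
  (SheafOfModules.toSheaf X.ringCatSheaf).map_id M

theorem ab_add {M N : X.Modules} (f g : M ⟶ N) : ab (f + g) = ab f + ab g := rfl

theorem horizontal_iff {M M' : X.Modules} (c : Coh.toAb M ⟶ Coh.toAb (CohB1.tensorMod M Ω'))
    (c' : Coh.toAb M' ⟶ Coh.toAb (CohB1.tensorMod M' Ω')) (f : M ⟶ M') :
    ConnSh.IsHorizontal c c' f ↔ ab f ≫ c' = c ≫ ab (KoszTw.tensorMap f (𝟙 Ω')) := by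
  constructor
  · intro h
    refine ObjectProperty.hom_ext _ (NatTrans.ext (funext fun U => ?_))
    ext e
    exact h U.unop e
  · intro h U e
    exact congrArg (fun g : Coh.toAb M ⟶ Coh.toAb (CohB1.tensorMod M' Ω') => ConnSh.secApp g U e) h

variable {k : Type u} [Field k] [X.Over (Spec (CommRingCat.of k))]
  {δ : OmegaSh.Der (X ↘ Spec (CommRingCat.of k)) Ω'} {E : X.Modules}
  {nabla : Coh.toAb E ⟶ Coh.toAb (CohB1.tensorMod E Ω')}
  {D : DefoSh.Defo E (dual k k)} {ι : E ⟶ D.sheaf}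

/-- The endomorphism `π ≫ S ≫ ι` commutes with the action. -/
theorem act_comm_endo (hι : D.π ≫ ι = D.act (DualNumber.eps : DualNumber k)) (S : E ⟶ E) (a : dual k k) :
    D.act a ≫ (D.π ≫ S ≫ ι) = (D.π ≫ S ≫ ι) ≫ D.act a := by
  set h := D.π ≫ S ≫ ι with hh
  have hE0 : D.act (eps k) ≫ h = h ≫ D.act (eps k) := by
    have hιε : ι ≫ D.act (eps k) = 0 := by
      rw [show D.act (eps k) = D.π ≫ ι from hι.symm, ← Category.assoc, ι_π D hι, zero_comp]
    rw [hh, ← Category.assoc, show D.act (eps k) ≫ D.π = 0 from eps_π D, zero_comp, Category.assoc,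
      Category.assoc, hιε, comp_zero, comp_zero]
  have hS : ∀ r : k, D.act (algebraMap k (dual k k) r) ≫ h = h ≫ D.act (algebraMap k (dual k k) r) := fun r => by
    rw [D.act_algebraMap]; exact (KLin.comp_smulModΓ h _).symm
  rw [eq_decomp a, map_add, map_mul, End.mul_def]
  erw [Preadditive.add_comp, Preadditive.comp_add, Category.assoc, hS, hS, reassoc_of% hE0]

theorem exists_endo (hι : D.π ≫ ι = D.act (DualNumber.eps : DualNumber k)) (u : D.sheaf ⟶ D.sheaf)
    (hπ : u ≫ D.π = D.π) (hact : ∀ a : dual k k, D.act a ≫ u = u ≫ D.act a) :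
    ∃ S : E ⟶ E, u = 𝟙 _ + D.π ≫ S ≫ ι := by
  haveI := epi_π D
  have h2 : (u - 𝟙 _) ≫ D.π = 0 := by rw [Preadditive.sub_comp, hπ, Category.id_comp, sub_self]
  have h1 : ι ≫ (u - 𝟙 _) = 0 := by
    rw [← cancel_epi D.π, ← Category.assoc, hι, comp_zero, Preadditive.comp_sub, Category.comp_id]
    erw [hact (eps k)]
    rw [show D.act (eps k) = D.π ≫ ι from hι.symm, reassoc_of% hπ, sub_self]
  obtain ⟨S, hS⟩ := exists_factor_of_shortExact (shortExact D hι) (shortExact D hι) _ h1 h2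
  exact ⟨S, by rw [← hS, add_sub_cancel]⟩

theorem transport_iff (hι : D.π ≫ ι = D.act (DualNumber.eps : DualNumber k))
    (c c' : DefoSh.DefoConn δ nabla D) :
    DefoSh.DefoConn.Transport c c' ↔ ∃ S : E ⟶ E, c'.conn - c.conn =
      ab D.π ≫ (nabla ≫ ab (N := CohB1.tensorMod E Ω') (KoszTw.tensorMap S (𝟙 Ω')) - ab S ≫ nabla) ≫
        ab (KoszTw.tensorMap ι (𝟙 Ω')) := by
  haveI : (T Ω').Additive := inferInstance
  haveI := epi_π D
  haveI : Epi (ab D.π) := (shortExact D hι).epi_g |> fun _ => (SheafOfModules.toSheaf X.ringCatSheaf).map_epi D.π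
  have hπ : ab D.π ≫ nabla = c'.conn ≫ ab (KoszTw.tensorMap D.π (𝟙 Ω')) := (horizontal_iff _ _ _).1 c'.π_horizontal
  have hπ' : ab D.π ≫ nabla = c.conn ≫ ab (KoszTw.tensorMap D.π (𝟙 Ω')) := (horizontal_iff _ _ _).1 c.π_horizontal
  have hιc : ab ι ≫ c'.conn = nabla ≫ ab (KoszTw.tensorMap ι (𝟙 Ω')) := by
    rw [← cancel_epi (ab D.π), ← Category.assoc, ← ab_comp, hι, reassoc_of% hπ]
    rw [(horizontal_iff _ _ _).1 (c'.act_horizontal (eps k)), ← ab_comp, tensorMap_eq, tensorMap_eq,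
      tensorMap_eq, show D.act (eps k) = D.π ≫ ι from hι.symm, Functor.map_comp]
  have key : ∀ S : E ⟶ E, ConnSh.IsHorizontal c.conn c'.conn (𝟙 _ + D.π ≫ S ≫ ι) ↔
      c'.conn - c.conn = ab D.π ≫ (nabla ≫ ab (N := CohB1.tensorMod E Ω') (KoszTw.tensorMap S (𝟙 Ω')) - ab S ≫ nabla) ≫
        ab (KoszTw.tensorMap ι (𝟙 Ω')) := by
    intro S
    have hT : ab (N := CohB1.tensorMod D.sheaf Ω') (KoszTw.tensorMap (𝟙 D.sheaf + D.π ≫ S ≫ ι) (𝟙 Ω')) =
        𝟙 _ + ab (KoszTw.tensorMap D.π (𝟙 Ω')) ≫ ab (KoszTw.tensorMap S (𝟙 Ω')) ≫ ab (KoszTw.tensorMap ι (𝟙 Ω')) := by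
      simp only [tensorMap_eq]
      rw [← ab_comp, ← ab_comp, ← ab_id, ← ab_add, ← Functor.map_comp, ← Functor.map_comp]
      congr 1
      exact ((T Ω').map_add).trans (congrArg (· + _) ((T Ω').map_id _))
    rw [horizontal_iff, hT, ab_add, ab_id, ab_comp, ab_comp, Preadditive.add_comp, Preadditive.comp_add,
      Category.id_comp, Category.comp_id, Category.assoc, Category.assoc, hιc, ← reassoc_of% hπ',
      Preadditive.sub_comp, Preadditive.comp_sub, Category.assoc, Category.assoc, sub_eq_sub_iff_add_eq_add]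
    constructor
    · intro h; rw [h]; abel
    · intro h; rw [h]; abel
  constructor
  · rintro ⟨e, he⟩
    obtain ⟨S, hS⟩ := exists_endo hι e.iso.hom e.hom_π e.act_hom
    rw [hS] at he
    exact ⟨S, (key S).1 he⟩
  · rintro ⟨S, hS⟩
    have hz : ∀ S S' : E ⟶ E, (D.π ≫ S ≫ ι) ≫ (D.π ≫ S' ≫ ι) = 0 := fun S S' => by
      simp only [Category.assoc]
      rw [reassoc_of% (ι_π D hι)]
      simp
    refine ⟨⟨⟨𝟙 _ + D.π ≫ S ≫ ι, 𝟙 _ - D.π ≫ S ≫ ι, ?_, ?_⟩, fun a => ?_, ?_⟩, (key S).2 hS⟩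
    · rw [Preadditive.add_comp, Preadditive.comp_sub, Preadditive.comp_sub, hz]
      simp
    · rw [Preadditive.sub_comp, Preadditive.comp_add, Preadditive.comp_add, hz]
      simp
    · rw [Preadditive.comp_add, Preadditive.add_comp, act_comm_endo hι S a, Category.comp_id, Category.id_comp]
    · rw [Preadditive.add_comp, Category.id_comp, Category.assoc, Category.assoc, ι_π D hι]
      simp

end Groth.Agent.DefoConnLib
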